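import Groth.Agent.NagaNorm57.Field
import Groth.Agent.Fin57.GenericFinite
import Groth.Agent.Desc59.EtaleDim
import Mathlib.AlgebraicGeometry.Normalization
import Mathlib.AlgebraicGeometry.Noetherian

/-! Normalization of a Nagata scheme in a reduced scheme is finite. -/

set_option autoImplicit false
set_option backward.isDefEq.respectTransparency.types false
set_option linter.style.haveILetI false
universe u
open CategoryTheory AlgebraicGeometry

namespace Groth.Agent.NagaNorm57

open Norm57 (IsMax')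

variable {X S : Scheme.{u}} (f : X ⟶ S)

theorem finite_isMax'_of_isCompact
    (hfin : LocallyFinite (fun Z : ↥(irreducibleComponents ↥X) => (Z : Set ↥X)))
    {K : Set X} (hK : IsCompact K) : {x ∈ K | IsMax' x}.Finite := by
  have h1 := hfin.finite_nonempty_inter_compact hK
  refine Set.Finite.of_finite_image (f := fun x => closure ({x} : Set X))
    ((h1.image Subtype.val).subset ?_) fun a ha b _ e =>
      (ha.2 b (specializes_iff_closure_subset.mpr e.le)).symm
  rintro _ ⟨x, ⟨hxK, hx⟩, rfl⟩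
  exact ⟨⟨closure {x}, Norm57.isMax'_iff.mp hx⟩, ⟨x, subset_closure rfl, hxK⟩, rfl⟩

theorem isFinite_fromNormalization [QuasiCompact f] [QuasiSeparated f] [IsReduced X]
    (hS : ∀ U : S.affineOpens, CAlg.IsNagata Γ(S, U))
    (hfin : LocallyFinite (fun Z : ↥(irreducibleComponents ↥X) => (Z : Set ↥X)))
    (hres : ∀ x : X, IsMax' x → (f.residueFieldMap x).hom.EssFiniteType) :
    IsFinite f.fromNormalization := by
  refine ⟨fun U hU => ?_⟩
  let := (f.app U).hom.toAlgebra
  suffices Module.Finite Γ(S, U) (integralClosure Γ(S, U) Γ(X, f ⁻¹ᵁ U)) by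
    rw [f.fromNormalization_app hU]
    exact RingHom.Finite.comp (RingHom.Finite.of_surjective _
      (ConcreteCategory.bijective_of_isIso (f.normalizationObjIso hU).inv).2) (RingHom.finite_algebraMap.2 this)
  have hc : IsCompact ((f ⁻¹ᵁ U : X.Opens) : Set X) := f.isCompact_preimage hU.isCompact
  let ι := {x : X // x ∈ f ⁻¹ᵁ U ∧ IsMax' x}
  haveI : Finite ι := (finite_isMax'_of_isCompact hfin hc).to_subtype
  refine finite_integralClosure_of_pi Γ(S, U) (hS ⟨U, hU⟩) (ι := ι) (fun i => X.residueField i.1)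
    (fun i => (X.evaluation (f ⁻¹ᵁ U) i.1 i.2.1).hom) (fun i => ?_) (fun b hb => ?_)
  · have hxU : f i.1 ∈ U := i.2.1
    have e : ((X.evaluation (f ⁻¹ᵁ U) i.1 i.2.1).hom).comp (algebraMap Γ(S, U) Γ(X, f ⁻¹ᵁ U)) =
        (f.residueFieldMap i.1).hom.comp
          ((S.residue (f i.1)).hom.comp (S.presheaf.germ U (f i.1) hxU).hom) := by
      rw [RingHom.algebraMap_toAlgebra]
      simp only [← CommRingCat.hom_comp]
      congr 1
      rw [Category.assoc, Scheme.residue_residueFieldMap, Scheme.Hom.germ_stalkMap_assoc]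
      rfl
    rw [e]
    refine RingHom.EssFiniteType.comp ?_ (hres i.1 i.2.2)
    refine RingHom.EssFiniteType.comp ?_
      (RingHom.FiniteType.of_surjective _ (S.residue_surjective _)).essFiniteType
    letI := S.presheaf.algebra_section_stalk ⟨f i.1, hxU⟩
    haveI := hU.isLocalization_stalk ⟨f i.1, hxU⟩
    exact RingHom.essFiniteType_algebraMap.mpr (Algebra.EssFiniteType.of_isLocalization
      (S.presheaf.stalk (f i.1)) (hU.primeIdealOf ⟨f i.1, hxU⟩).asIdeal.primeCompl)
  · rw [← basicOpen_eq_bot_iff]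
    refine TopologicalSpace.Opens.ext (Set.eq_empty_iff_forall_notMem.mpr fun y hy => ?_)
    obtain ⟨w, hw, hwy⟩ := Norm57.exists_isMax'_specializes y
    have hwb : w ∈ X.basicOpen b := hwy.mem_open (X.basicOpen b).2 hy
    have hwU : w ∈ f ⁻¹ᵁ U := X.basicOpen_le b hwb
    exact ((X.evaluation_ne_zero_iff_mem_basicOpen w hwU b).mpr hwb) (hb ⟨w, hwU, hw⟩)

/-- Components are locally finite on locally Noetherian schemes. -/
theorem locallyFinite_irreducibleComponents [IsLocallyNoetherian X] :
    LocallyFinite (fun Z : ↥(irreducibleComponents ↥X) => (Z : Set ↥X)) := by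
  intro x
  obtain ⟨U, hU, hxU, -⟩ := exists_isAffineOpen_mem_and_subset (x := x) (U := ⊤) trivial
  refine ⟨U, U.2.mem_nhds hxU, ?_⟩
  haveI : IsNoetherianRing Γ(X, U) := IsLocallyNoetherian.component_noetherian ⟨U, hU⟩
  haveI : TopologicalSpace.NoetherianSpace U.toScheme := noetherianSpace_of_isAffineOpen U hU
  have h1 := Fin57.finite_setOf_isMax'
    (TopologicalSpace.NoetherianSpace.finite_irreducibleComponents (α := U.toScheme))
  refine Set.Finite.of_finite_image (f := Subtype.val)
    ((h1.image fun w => closure ({U.ι w} : Set X)).subset ?_) Subtype.val_injective.injOn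
  rintro _ ⟨⟨Z, hZ⟩, ⟨z, hzZ, hzU⟩, rfl⟩
  obtain ⟨w, hw⟩ := QuasiSober.sober hZ.1 (isClosed_of_mem_irreducibleComponents Z hZ)
  have hwz : w ⤳ z := specializes_iff_mem_closure.mpr (hw.symm ▸ hzZ)
  have hwU : w ∈ U := hwz.mem_open U.2 hzU
  refine ⟨⟨w, hwU⟩, fun v hv => Subtype.ext ?_, hw⟩
  exact Norm57.isMax'_iff.mpr (hw.symm ▸ hZ) _ (hv.map U.ι.continuous)

end Groth.Agent.NagaNorm57
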