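import Groth.Agent.NagaNorm57.Scheme
import Mathlib.RingTheory.DiscreteValuationRing.TFAE
import Mathlib.RingTheory.Ideal.KrullsHeightTheorem

/-! Codimension one points of a relative normalization outside the image are normal. -/

set_option autoImplicit false
set_option backward.isDefEq.respectTransparency.types false
set_option linter.style.haveILetI false
universe u
open CategoryTheory AlgebraicGeometry Polynomial

namespace Groth.Agent.NagaNorm57

/-- A one dimensional Noetherian reduced local ring which contains every quotient `x / s` integral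
over it is a discrete valuation ring. -/
theorem isDVR_of_dvd {R : Type u} [CommRing R] [IsLocalRing R] [IsNoetherianRing R] [_root_.IsReduced R]
    (hdim : ringKrullDim R = 1)
    (H : ∀ x s : R, s ∈ nonZeroDivisors R → ∀ P : R[X], P.Monic → (P.scaleRoots s).eval x = 0 → s ∣ x) :
    ∃ _ : IsDomain R, IsDiscreteValuationRing R := by
  classical
  have hfin : (minimalPrimes R).Finite := minimalPrimes.finite_of_isNoetherianRing R
  have hzero : ∀ z : R, (∀ P ∈ minimalPrimes R, z ∈ P) → z = 0 := fun z hz => by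
    refine IsReduced.eq_zero _ (mem_nilradical.mp ?_)
    rw [nilradical, ← Ideal.sInf_minimalPrimes, Submodule.mem_sInf]
    exact hz
  have huniq : ∀ P₁ ∈ minimalPrimes R, ∀ P₂ ∈ minimalPrimes R, P₁ = P₂ := by
    intro P₁ h1 P₂ h2
    by_contra hne
    let s' := hfin.toFinset.erase P₁
    have hs' : ∀ Q, Q ∈ s' ↔ Q ≠ P₁ ∧ Q ∈ minimalPrimes R := fun Q => by simp [s']
    haveI := h1.1.1
    have hnot : ∀ Q ∈ s', ¬ Q ≤ P₁ := fun Q hQ hle =>
      ((hs' Q).mp hQ).1 (le_antisymm hle (h1.2 ((hs' Q).mp hQ).2.1 hle))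
    obtain ⟨b, hb, hbP⟩ : ∃ b, b ∈ s'.inf id ∧ b ∉ P₁ := by
      by_contra hcon
      push Not at hcon
      obtain ⟨Q, hQ, hle⟩ := (Ideal.IsPrime.inf_le' h1.1.1).mp (show s'.inf id ≤ P₁ from hcon)
      exact hnot Q hQ hle
    have hbQ : ∀ Q ∈ s', b ∈ Q := fun Q hQ => (Finset.inf_le (f := id) hQ : s'.inf id ≤ Q) hb
    obtain ⟨a, ha, haQ⟩ : ∃ a ∈ P₁, ∀ Q ∈ s', a ∉ Q := by
      by_contra hcon
      push Not at hcon
      have hsub : (P₁ : Set R) ⊆ ⋃ Q ∈ (s' : Set (Ideal R)), (Q : Set R) := fun a ha => by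
        obtain ⟨Q, hQ, haQ⟩ := hcon a ha
        exact Set.mem_biUnion hQ haQ
      obtain ⟨Q, hQ, hle⟩ := (Ideal.subset_union_prime P₁ P₁
        (fun Q hQ _ _ => (((hs' Q).mp hQ).2).1.1)).mp hsub
      exact ((hs' Q).mp hQ).1 (le_antisymm (((hs' Q).mp hQ).2.2 h1.1 hle) hle)
    have hab : a * b = 0 := hzero _ fun Q hQ => by
      by_cases e : Q = P₁
      · exact Ideal.mul_mem_right _ _ (e ▸ ha)
      · exact Ideal.mul_mem_left _ _ (hbQ Q ((hs' Q).mpr ⟨e, hQ⟩))
    have hsP : ∀ Q ∈ minimalPrimes R, a + b ∉ Q := fun Q hQ h => by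
      by_cases e : Q = P₁
      · subst e
        exact hbP ((Submodule.add_mem_iff_right _ ha).mp h)
      · exact haQ Q ((hs' Q).mpr ⟨e, hQ⟩)
          ((Submodule.add_mem_iff_left _ (hbQ Q ((hs' Q).mpr ⟨e, hQ⟩))).mp h)
    have hs : a + b ∈ nonZeroDivisors R := mem_nonZeroDivisors_iff_right.mpr fun z hz => hzero z fun Q hQ =>
      (hQ.1.1.mem_or_mem (show z * (a + b) ∈ Q from hz ▸ Q.zero_mem)).resolve_right (hsP Q hQ)
    obtain ⟨c, hc⟩ := H b (a + b) hs (X ^ 2 - X) (monic_X_pow_sub (by simp)) (by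
      have hd : ((X : R[X]) ^ 2 - X).natDegree = 2 := by compute_degree!
      rw [eval_eq_sum_range, natDegree_scaleRoots, hd, Finset.sum_range_succ, Finset.sum_range_succ,
        Finset.sum_range_one, coeff_scaleRoots, coeff_scaleRoots, coeff_scaleRoots, hd]
      simp [coeff_X_pow, coeff_X]
      linear_combination -hab)
    have hcid : c * (1 - c) = 0 := by
      refine (mem_nonZeroDivisors_iff_right.mp (mul_mem hs hs)) _ ?_
      linear_combination hab - (a - (a + b) * c) * hc
    have hc01 : c = 0 ∨ c = 1 := by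
      rcases IsLocalRing.isUnit_or_isUnit_one_sub_self c with hcu | hcu
      · exact Or.inr (sub_eq_zero.mp (hcu.mul_right_eq_zero.mp hcid)).symm
      · exact Or.inl (hcu.mul_left_eq_zero.mp hcid)
    rcases hc01 with rfl | rfl
    · rw [mul_zero] at hc
      exact hbP (hc ▸ P₁.zero_mem)
    · rw [mul_one] at hc
      have ha0 : a = 0 := by linear_combination -hc
      exact haQ P₂ ((hs' P₂).mpr ⟨fun e => hne e.symm, h2⟩) (ha0 ▸ P₂.zero_mem)
  haveI : IsDomain R := by
    obtain ⟨P, hP⟩ := Ideal.nonempty_minimalPrimes (R := R) (I := ⊥) bot_ne_top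
    haveI := hP.1.1
    have : P = ⊥ := (Submodule.eq_bot_iff _).mpr fun z hz => hzero z fun Q hQ =>
      huniq P hP Q hQ ▸ hz
    exact (Ideal.Quotient.isDomain_iff_prime _).mp inferInstance |> fun (_ : P.IsPrime) =>
      IsDomain.of_bot_isPrime R (hbp := this ▸ ‹P.IsPrime›)
  refine ⟨inferInstance, ?_⟩
  have hnf : ¬ IsField R := fun h => by
    rw [ringKrullDim_eq_zero_of_isField h] at hdim
    exact zero_ne_one hdim
  haveI : IsIntegrallyClosed R := by
    rw [isIntegrallyClosed_iff (FractionRing R)]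
    intro z hz
    obtain ⟨x, s, hs, rfl⟩ := IsFractionRing.div_surjective (A := R) z
    obtain ⟨P, hP, hP0⟩ := hz
    obtain ⟨c, hc⟩ := H x s hs P hP (by
      apply IsFractionRing.injective R (FractionRing R)
      rw [map_zero, ← eval₂_at_apply]
      have := scaleRoots_eval₂_mul (p := P) (algebraMap R (FractionRing R))
        (algebraMap R _ x / algebraMap R _ s) s
      rw [mul_div_cancel₀ _ (IsFractionRing.to_map_ne_zero_of_mem_nonZeroDivisors hs)] at this
      rw [this, hP0, mul_zero])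
    exact ⟨c, by rw [hc, map_mul, mul_div_cancel_left₀ _ (IsFractionRing.to_map_ne_zero_of_mem_nonZeroDivisors hs)]⟩
  haveI : Ring.DimensionLEOne R := ⟨fun {q} hq0 hqp => by
    haveI : Ring.KrullDimLE 1 R := Ring.krullDimLE_iff.mpr hdim.le
    by_contra hnm
    have hlt : q < IsLocalRing.maximalIdeal R := lt_of_le_of_ne (IsLocalRing.le_maximalIdeal hqp.ne_top)
      fun e => hnm (e ▸ IsLocalRing.maximalIdeal.isMaximal R)
    let c : LTSeries (PrimeSpectrum R) :=
      ⟨2, ![⟨⊥, Ideal.isPrime_bot⟩, ⟨q, hqp⟩, IsLocalRing.closedPoint R],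
        fun i => by fin_cases i; exacts [bot_lt_iff_ne_bot.mpr hq0, hlt]⟩
    have h2 : (2 : WithBot ℕ∞) ≤ 1 := hdim ▸ Order.LTSeries.length_le_krullDim c
    exact absurd h2 (by decide)⟩
  haveI : IsDedekindDomain R := { }
  exact ((IsDiscreteValuationRing.TFAE R hnf).out 0 2).mpr ‹IsDedekindDomain R›

/-- The algebra: quotients integral over `A_p` lie in `A_p`. -/
theorem dvd_of_integral {A B : Type u} [CommRing A] [CommRing B] (φ : A →+* B)
    (hφ : Function.Injective φ) (hcl : ∀ b : B, φ.IsIntegralElem b → b ∈ φ.range)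
    (p : Ideal A) [p.IsPrime] (R : Type u) [CommRing R] [Algebra A R] [IsLocalization.AtPrime R p]
    (hinv : ∀ s : A, (∀ q : Ideal A, q.IsPrime → q < p → s ∉ q) → ∃ g ∉ p, φ s ∣ φ g)
    (hR : ∀ q : Ideal R, q.IsPrime → q ≠ (p.map (algebraMap A R)) → q ∈ minimalPrimes R)
    (x s : R) (hs : s ∈ nonZeroDivisors R) (P : R[X]) (hP : P.Monic)
    (h : (P.scaleRoots s).eval x = 0) : s ∣ x := by
  classical
  haveI : IsLocalRing R := IsLocalization.AtPrime.isLocalRing R p
  obtain ⟨a, t₁, rfl⟩ := IsLocalization.exists_mk'_eq p.primeCompl x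
  obtain ⟨s₀, t₂, rfl⟩ := IsLocalization.exists_mk'_eq p.primeCompl s
  -- numerators over the common denominator
  let a' := a * t₂.1
  let s' := s₀ * t₁.1
  have hu : ∀ t : p.primeCompl, IsUnit (algebraMap A R t.1) := IsLocalization.map_units R
  obtain ⟨e, he⟩ : IsUnit (algebraMap A R t₁.1 * algebraMap A R t₂.1) := (hu t₁).mul (hu t₂)
  have hxa : algebraMap A R a' = IsLocalization.mk' R a t₁ * e := by
    rw [he, ← mul_assoc, IsLocalization.mk'_spec, map_mul]
  have hss : algebraMap A R s' = IsLocalization.mk' R s₀ t₂ * e := by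
    rw [he, mul_comm (algebraMap A R t₁.1), ← mul_assoc, IsLocalization.mk'_spec, map_mul]
  set x := IsLocalization.mk' R a t₁
  set s := IsLocalization.mk' R s₀ t₂
  suffices algebraMap A R s' ∣ algebraMap A R a' by
    rw [hxa, hss] at this
    exact (IsUnit.mul_right_dvd e.isUnit).mp ((IsUnit.dvd_mul_right e.isUnit).mp this)
  have h' : (P.scaleRoots (algebraMap A R s')).eval (algebraMap A R a') = 0 := by
    rw [hxa, hss, scaleRoots_mul, mul_comm x]
    have := scaleRoots_eval₂_mul (p := P.scaleRoots s) (RingHom.id R) x (e : R)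
    rw [RingHom.id_apply, eval₂_id, eval₂_id, h, mul_zero] at this
    exact this
  -- clear the denominators of the coefficients
  obtain ⟨⟨u, hu'⟩, hQ⟩ : ∃ u : p.primeCompl, P.scaleRoots (algebraMap A R u.1) ∈
      lifts (algebraMap A R) := by
    obtain ⟨u, hu⟩ := IsLocalization.exist_integer_multiples p.primeCompl
      (Finset.range P.natDegree) P.coeff
    refine ⟨u, (lifts_iff_coeff_lifts _).mpr fun i => ?_⟩
    rw [coeff_scaleRoots]
    rcases lt_trichotomy i P.natDegree with hi | rfl | hi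
    · obtain ⟨c, hc⟩ := hu i (Finset.mem_range.mpr hi)
      obtain ⟨k, hk⟩ := Nat.exists_eq_add_of_lt hi
      refine ⟨c * u.1 ^ k, ?_⟩
      rw [map_mul, hc, map_pow, Algebra.smul_def, show P.natDegree - i = k + 1 by omega, pow_succ]
      ring
    · exact ⟨1, by rw [map_one, hP.coeff_natDegree, Nat.sub_self, pow_zero, mul_one]⟩
    · exact ⟨0, by rw [map_zero, coeff_eq_zero_of_natDegree_lt hi, zero_mul]⟩
  obtain ⟨Q, hQ1, -, hQm⟩ := lifts_and_degree_eq_and_monic hQ ((monic_scaleRoots_iff _).mpr hP)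
  have hH : algebraMap A R ((Q.scaleRoots s').eval (u * a')) = 0 := by
    rw [← eval₂_at_apply, ← Polynomial.eval_map, map_scaleRoots _ _ _ (by simp [hQm.leadingCoeff]), hQ1,
      ← scaleRoots_mul, mul_comm (algebraMap A R u), scaleRoots_mul, map_mul]
    have := scaleRoots_eval₂_mul (p := P.scaleRoots (algebraMap A R s')) (RingHom.id R)
      (algebraMap A R a') (algebraMap A R u)
    rw [RingHom.id_apply, eval₂_id, eval₂_id, h', mul_zero] at this
    exact this
  obtain ⟨⟨w, hw⟩, hwH⟩ := (IsLocalization.map_eq_zero_iff p.primeCompl R _).mp hH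
  have hs' : ∀ q : Ideal A, q.IsPrime → q < p → s' ∉ q := by
    intro q hq hqp hsq
    have hdisj : Disjoint (p.primeCompl : Set A) q :=
      Set.disjoint_left.mpr fun z hz hzq => hz (hqp.le hzq)
    have hq' := IsLocalization.isPrime_of_isPrime_disjoint p.primeCompl R q hq hdisj
    have hne : q.map (algebraMap A R) ≠ p.map (algebraMap A R) := fun e' => hqp.ne (by
      rw [← IsLocalization.under_map_of_isPrime_disjoint p.primeCompl R hq hdisj, e',
        IsLocalization.under_map_of_isPrime_disjoint p.primeCompl R ‹p.IsPrime›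
          (Set.disjoint_left.mpr fun z hz hzp => hz hzp)])
    have hmem : s ∈ q.map (algebraMap A R) := by
      have h1 : algebraMap A R s' ∈ q.map (algebraMap A R) := Ideal.mem_map_of_mem _ hsq
      rw [hss] at h1
      exact (Ideal.unit_mul_mem_iff_mem _ e.isUnit).mp (mul_comm s (e : R) ▸ h1)
    exact Set.disjoint_left.mp (Ideal.disjoint_nonZeroDivisors_of_mem_minimalPrimes (hR _ hq' hne))
      hmem hs
  obtain ⟨g, hg, b, hgb⟩ := hinv s' hs'
  -- z = g (u a') / s'
  let z := φ (u * a') * b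
  have hsz : φ s' * z = φ g * φ (u * a') := by rw [hgb]; ring
  have h1 : φ s' ^ Q.natDegree * (φ w * (Q.scaleRoots g).eval₂ φ z) = 0 := by
    have e1 := scaleRoots_eval₂_mul (p := Q.scaleRoots g) φ z s'
    rw [natDegree_scaleRoots, ← scaleRoots_mul, hsz, mul_comm g s', scaleRoots_mul,
      scaleRoots_eval₂_mul, natDegree_scaleRoots, eval₂_at_apply] at e1
    rw [mul_left_comm, ← e1, ← mul_assoc, mul_comm (φ w), mul_assoc, ← map_mul, hwH, map_zero,
      mul_zero]
  have h2 : φ g ^ Q.natDegree * (φ w * (Q.scaleRoots g).eval₂ φ z) = 0 := by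
    rw [hgb, mul_pow, mul_comm (φ s' ^ _), mul_assoc, h1, mul_zero]
  obtain ⟨c, hc⟩ := hcl (φ (g ^ Q.natDegree * w) * z) (by
    rcases Nat.eq_zero_or_pos Q.natDegree with hd | hd
    · rw [hd, pow_zero, one_mul] at h2 ⊢
      rw [hQm.natDegree_eq_zero.mp hd, one_scaleRoots, eval₂_one, mul_one] at h2
      exact ⟨X, monic_X, by rw [eval₂_X, h2, zero_mul]⟩
    · refine ⟨(Q.scaleRoots g).scaleRoots (g ^ Q.natDegree * w),
        (monic_scaleRoots_iff _).mpr ((monic_scaleRoots_iff _).mpr hQm), ?_⟩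
      obtain ⟨d, hd'⟩ : ∃ d, Q.natDegree = d + 1 := ⟨_, (Nat.succ_pred_eq_of_pos hd).symm⟩
      rw [scaleRoots_eval₂_mul, natDegree_scaleRoots]
      nth_rewrite 2 [hd']
      rw [pow_succ, mul_assoc, map_mul, map_pow, mul_assoc, h2, mul_zero])
  have h3 : s' * c = g ^ Q.natDegree * w * g * (u * a') := hφ (by
    rw [map_mul, hc, mul_left_comm, hsz, map_mul _ _ (u * a'), map_mul _ _ g, mul_assoc])
  have hunit : IsUnit (algebraMap A R (g ^ Q.natDegree * w * g * u)) := hu
    ⟨_, p.primeCompl.mul_mem (p.primeCompl.mul_mem (p.primeCompl.mul_mem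
      (pow_mem (show g ∈ p.primeCompl from hg) _) hw) hg) hu'⟩
  refine (IsUnit.dvd_mul_left hunit).mp ⟨algebraMap A R c, ?_⟩
  rw [← map_mul, ← map_mul, h3, mul_assoc (g ^ Q.natDegree * w * g)]

variable {X Y : Scheme.{u}}

/-- If all points over generizations of `η` lie in an open `W` of `f ⁻¹ V`, so do nearby fibres. -/
theorem exists_basicOpen_preimage_le (f : X ⟶ Y) [QuasiCompact f] {η : Y}
    {V : Y.Opens} (hV : IsAffineOpen V) (hηV : η ∈ V) {W : X.Opens}
    (hW : ∀ x : X, f x ⤳ η → f x ∈ V → x ∈ W) :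
    ∃ g : Γ(Y, V), η ∈ Y.basicOpen g ∧ f ⁻¹ᵁ Y.basicOpen g ≤ W := by
  let U := f ⁻¹ᵁ V
  let W' : U.toScheme.Opens := U.ι ⁻¹ᵁ W
  let Z : TopologicalSpace.Closeds U.toScheme := ⟨(W' : Set U.toScheme)ᶜ, W'.2.isClosed_compl⟩
  let I := Scheme.IdealSheafData.vanishingIdeal Z
  have hI : Set.range I.subschemeι = (W' : Set U.toScheme)ᶜ := by
    rw [I.range_subschemeι]
    rfl
  let φ' : I.subscheme ⟶ V := I.subschemeι ≫ (f ∣_ V)
  have hη' : (⟨η, hηV⟩ : V) ∉ closure (Set.range φ') := fun h => by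
    obtain ⟨z, hz⟩ := SchBasics.exists_specializes_of_mem_closure_range φ' h
    have h1 : I.subschemeι z ∉ W' := hI.le ⟨z, rfl⟩
    have he : f (U.ι (I.subschemeι z)) = V.ι (φ' z) :=
      (morphismRestrict_base_coe f V _).symm
    refine h1 (hW _ ?_ ?_)
    · rw [he]; exact hz.map V.ι.continuous
    · rw [he]; exact (φ' z).2
  let N : V.toScheme.Opens := ⟨(closure (Set.range φ'))ᶜ, isClosed_closure.isOpen_compl⟩
  obtain ⟨g, hg, hηg⟩ := hV.exists_basicOpen_le (V := V.ι ''ᵁ N) ⟨η, ⟨η, hηV⟩, hη', rfl⟩ hηV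
  refine ⟨g, hηg, fun x hx => ?_⟩
  obtain ⟨v, hvN, hv⟩ := hg hx
  by_contra hxW
  have hxU : x ∈ U := show f x ∈ V from hv ▸ v.2
  obtain ⟨z, hz⟩ : (⟨x, hxU⟩ : U.toScheme) ∈ Set.range I.subschemeι := hI.ge hxW
  refine hvN (subset_closure ⟨z, ?_⟩)
  refine V.ι.isOpenEmbedding.injective (Eq.trans ?_ hv.symm)
  change ((f ∣_ V) ≫ V.ι) (I.subschemeι z) = f x
  rw [hz, morphismRestrict_ι]
  rfl

/-- Sections of the normalization over the preimage of an affine open. -/
theorem toNormalization_appLE (f : Y ⟶ X) [QuasiCompact f] [QuasiSeparated f] {U : X.Opens}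
    (hU : IsAffineOpen U) (hle : f ⁻¹ᵁ U ≤ f.toNormalization ⁻¹ᵁ f.fromNormalization ⁻¹ᵁ U) :
    let φ := (f.toNormalization.appLE (f.fromNormalization ⁻¹ᵁ U) (f ⁻¹ᵁ U) hle).hom
    Function.Injective φ ∧ ∀ b, φ.IsIntegralElem b → b ∈ φ.range := by
  intro φ
  have hval := f.normalizationObjIso_hom_val hU
  constructor
  · intro a b hab
    refine (ConcreteCategory.bijective_of_isIso (f.normalizationObjIso hU).hom).1 (Subtype.ext ?_)
    exact ((ConcreteCategory.congr_hom hval a).trans hab).trans (ConcreteCategory.congr_hom hval b).symm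
  · intro b hb
    letI := (f.app U).hom.toAlgebra
    letI := φ.toAlgebra
    letI := (f.fromNormalization.app U).hom.toAlgebra
    haveI : IsScalarTower Γ(X, U) Γ(f.normalization, f.fromNormalization ⁻¹ᵁ U) Γ(Y, f ⁻¹ᵁ U) :=
      IsScalarTower.of_algebraMap_eq' (by
        simp only [φ, RingHom.algebraMap_toAlgebra, ← CommRingCat.hom_comp, Scheme.Hom.app_eq_appLE,
          Scheme.Hom.appLE_comp_appLE, f.toNormalization_fromNormalization])
    haveI : Algebra.IsIntegral Γ(X, U) Γ(f.normalization, f.fromNormalization ⁻¹ᵁ U) :=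
      ⟨IsIntegralHom.isIntegral_app f.fromNormalization U hU⟩
    have hb' : IsIntegral Γ(X, U) b := isIntegral_trans b hb
    refine ⟨(f.normalizationObjIso hU).inv ⟨b, hb'⟩, ?_⟩
    refine ((ConcreteCategory.congr_hom hval ((f.normalizationObjIso hU).inv ⟨b, hb'⟩)).symm).trans ?_
    exact congrArg Subtype.val
      (ConcreteCategory.congr_hom (f.normalizationObjIso hU).inv_hom_id ⟨b, hb'⟩)

theorem isDVR_stalk_normalization (f : Y ⟶ X) [QuasiCompact f] [QuasiSeparated f] [IsReduced Y]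
    [IsLocallyNoetherian f.normalization]
    (x' : ↥f.normalization) (hdim : ringKrullDim (f.normalization.presheaf.stalk x') = 1)
    (hx' : x' ∉ Set.range f.toNormalization.base) :
    ∃ _ : IsDomain (f.normalization.presheaf.stalk x'),
      IsDiscreteValuationRing (f.normalization.presheaf.stalk x') := by
  obtain ⟨U, hU, hxU, -⟩ := exists_isAffineOpen_mem_and_subset (x := f.fromNormalization x') (U := ⊤) trivial
  let V := f.fromNormalization ⁻¹ᵁ U
  have hV : IsAffineOpen V := hU.preimage _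
  have hxV : x' ∈ V := hxU
  have hle : f ⁻¹ᵁ U = f.toNormalization ⁻¹ᵁ V := by
    rw [← Scheme.Hom.comp_preimage, f.toNormalization_fromNormalization]
  obtain ⟨hinj, hcl⟩ := toNormalization_appLE f hU hle.le
  set φ := (f.toNormalization.appLE V (f ⁻¹ᵁ U) hle.le).hom
  let P := hV.primeIdealOf ⟨x', hxV⟩
  letI := f.normalization.presheaf.algebra_section_stalk ⟨x', hxV⟩
  haveI : IsLocalization.AtPrime (f.normalization.presheaf.stalk x') P.asIdeal :=
    hV.isLocalization_stalk ⟨x', hxV⟩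
  refine isDVR_of_dvd hdim fun x s hs Q hQ h => dvd_of_integral φ hinj hcl P.asIdeal
    (f.normalization.presheaf.stalk x') (fun a ha => ?_) (fun q hq hne => ?_) x s hs Q hQ h
  · obtain ⟨g, hxg, hg⟩ := exists_basicOpen_preimage_le f.toNormalization hV hxV
      (W := f.toNormalization ⁻¹ᵁ f.normalization.basicOpen a) (η := x') fun y hy hyV => by
        let q := hV.primeIdealOf ⟨f.toNormalization y, hyV⟩
        have hsp : q ⤳ P := by
          refine hV.fromSpec.isEmbedding.isInducing.specializes_iff.mp ?_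
          rw [hV.fromSpec_primeIdealOf ⟨f.toNormalization y, hyV⟩, hV.fromSpec_primeIdealOf ⟨x', hxV⟩]
          exact hy
        have hlt : q.asIdeal < P.asIdeal := by
          refine lt_of_le_of_ne ((PrimeSpectrum.le_iff_specializes q P).mpr hsp) fun e => hx' ⟨y, ?_⟩
          have := congrArg hV.fromSpec (PrimeSpectrum.ext e)
          rwa [hV.fromSpec_primeIdealOf, hV.fromSpec_primeIdealOf] at this
        have hnot := ha q.asIdeal q.isPrime hlt
        change f.toNormalization y ∈ f.normalization.basicOpen a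
        rw [show f.toNormalization y = hV.fromSpec q from (hV.fromSpec_primeIdealOf ⟨f.toNormalization y, hyV⟩).symm]
        change q ∈ hV.fromSpec ⁻¹ᵁ f.normalization.basicOpen a
        rw [hV.fromSpec_preimage_basicOpen]
        exact hnot
    have hgP : g ∉ P.asIdeal := by
      have : P ∈ hV.fromSpec ⁻¹ᵁ f.normalization.basicOpen g :=
        show hV.fromSpec P ∈ f.normalization.basicOpen g from (hV.fromSpec_primeIdealOf ⟨x', hxV⟩).symm ▸ hxg
      rwa [hV.fromSpec_preimage_basicOpen] at this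
    have hsub : Y.basicOpen (φ g) ≤ Y.basicOpen (φ a) := by
      rw [Scheme.basicOpen_appLE, Scheme.basicOpen_appLE]
      exact inf_le_inf_left _ hg
    have hc : IsCompact (f ⁻¹ᵁ U : Set Y) := f.isCompact_preimage hU.isCompact
    have hqs : IsQuasiSeparated (f ⁻¹ᵁ U : Set Y) := by
      refine (isQuasiSeparated_iff_quasiSeparatedSpace _ (f ⁻¹ᵁ U).2).mpr ?_
      haveI : IsAffine U := hU
      exact quasiSeparatedSpace_of_quasiSeparated (f ∣_ U)
    haveI := isLocalization_basicOpen_of_qcqs hc hqs (φ g)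
    have hunit : IsUnit (algebraMap Γ(Y, f ⁻¹ᵁ U) Γ(Y, Y.basicOpen (φ g)) (φ a)) := by
      rw [RingHom.algebraMap_toAlgebra]
      have h0 : IsUnit (Y.presheaf.map (homOfLE (Y.basicOpen_le (φ a))).op (φ a)) :=
        RingedSpace.isUnit_res_basicOpen Y.toRingedSpace (φ a)
      have h1 := h0.map (Y.presheaf.map (homOfLE hsub).op).hom
      rwa [← CommRingCat.comp_apply, ← Functor.map_comp] at h1
    obtain ⟨b, hb⟩ := hunit.exists_right_inv
    obtain ⟨n, b', hb'⟩ := IsLocalization.Away.surj (φ g) b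
    obtain ⟨⟨_, m, rfl⟩, hm⟩ := (IsLocalization.eq_iff_exists (Submonoid.powers (φ g))
      Γ(Y, Y.basicOpen (φ g))).mp (show algebraMap Γ(Y, f ⁻¹ᵁ U) _ (φ a * b') =
        algebraMap _ _ (φ g ^ n) by rw [map_mul, ← hb', ← mul_assoc, hb, one_mul, map_pow])
    refine ⟨g ^ (m + n), fun h => hgP (P.isPrime.mem_of_pow_mem _ h), φ g ^ m * b', ?_⟩
    dsimp only at hm
    rw [map_pow, pow_add, mul_left_comm, hm]
  · refine ⟨⟨hq, bot_le⟩, fun q' hq' hle' => ?_⟩
    have hmax : (P.asIdeal.map (algebraMap Γ(f.normalization, V) _)) =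
        IsLocalRing.maximalIdeal (f.normalization.presheaf.stalk x') :=
      IsLocalization.AtPrime.map_eq_maximalIdeal P.asIdeal _
    by_contra hne'
    have hlt : q' < q := lt_of_le_not_ge hle' hne'
    have hlt2 : q < IsLocalRing.maximalIdeal (f.normalization.presheaf.stalk x') :=
      lt_of_le_of_ne (IsLocalRing.le_maximalIdeal hq.ne_top) (hmax ▸ hne)
    let c : LTSeries (PrimeSpectrum (f.normalization.presheaf.stalk x')) :=
      ⟨2, ![⟨q', hq'.1⟩, ⟨q, hq⟩, IsLocalRing.closedPoint _], fun i => by fin_cases i <;> assumption⟩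
    have h2 : (2 : WithBot ℕ∞) ≤ 1 := hdim ▸ Order.LTSeries.length_le_krullDim c
    exact absurd h2 (by decide)

end Groth.Agent.NagaNorm57
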