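import Groth.Agent.CAlg1.NagataTheorem

/-! Integral closure of a Nagata ring in a finitely generated field extension is finite. -/

set_option autoImplicit false
set_option backward.isDefEq.respectTransparency.types false
universe u
open Polynomial

namespace Groth.Agent.NagaNorm57

open CAlg1.Nag

theorem finite_integralClosure_field {R S : Type u} [CommRing R] [Field S] [Algebra R S]
    [Algebra.EssFiniteType R S] (hR : CAlg.IsNagata R) : Module.Finite R (integralClosure R S) := by
  haveI := hR.1
  let p := RingHom.ker (algebraMap R S)
  haveI : p.IsPrime := RingHom.ker_isPrime _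
  let A := R ⧸ p
  letI : Algebra A S := (RingHom.kerLift (algebraMap R S)).toAlgebra
  haveI : IsScalarTower R A S := IsScalarTower.of_algebraMap_eq fun _ => rfl
  haveI : FaithfulSMul A S := (faithfulSMul_iff_algebraMap_injective A S).mpr (RingHom.kerLift_injective _)
  haveI : Algebra.EssFiniteType A S := Algebra.EssFiniteType.of_comp R A S
  let F := FractionRing S
  letI : Algebra (FractionRing A) F := FractionRing.liftAlgebra A F
  haveI : Algebra.EssFiniteType A F := Algebra.EssFiniteType.comp A S F
  haveI : Algebra.EssFiniteType (FractionRing A) F := Algebra.EssFiniteType.of_comp A (FractionRing A) F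
  haveI : FiniteDimensional (FractionRing A) (algebraicClosure (FractionRing A) F) :=
    S6333.result (IntermediateField.fg_top_iff.mpr inferInstance)
  let K1 := algebraicClosure (FractionRing A) F
  haveI : Module.Finite A (integralClosure A K1) := isN2_of_isNagata (isNagata_quotient p hR) K1 inferInstance
  haveI : IsScalarTower A (FractionRing A) F := inferInstance
  haveI : IsScalarTower A K1 F := IsScalarTower.of_algebraMap_eq fun a => by
    rw [IsScalarTower.algebraMap_apply A (FractionRing A) F, IsScalarTower.algebraMap_apply A (FractionRing A) K1]
    rfl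
  let ψ : integralClosure A S → integralClosure A K1 := fun z =>
    ⟨⟨algebraMap S F z, by
      rw [mem_algebraicClosure_iff']
      exact (z.2.algebraMap (B := F)).tower_top⟩, by
      exact (isIntegral_algHom_iff (IsScalarTower.toAlgHom A K1 F) Subtype.val_injective).mp
        (z.2.algebraMap (B := F))⟩
  let ψl : integralClosure A S →ₗ[A] integralClosure A K1 :=
    { toFun := ψ
      map_add' := fun a b => Subtype.ext (Subtype.ext (map_add (algebraMap S F) a.1 b.1))
      map_smul' := fun r a => Subtype.ext (Subtype.ext (by
        show algebraMap S F (r • (a : S)) = r • algebraMap S F (a : S)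
        rw [Algebra.smul_def, map_mul, ← IsScalarTower.algebraMap_apply, ← Algebra.smul_def])) }
  haveI : IsNoetherianRing A := inferInstance
  have hfinA : Module.Finite A (integralClosure A S) := Module.Finite.of_injective ψl fun a b h =>
    Subtype.ext (IsFractionRing.injective S F
      (congrArg (fun w : integralClosure A K1 => ((w : K1) : F)) h :))
  obtain ⟨T, hT1, hT2⟩ := (CAlg5.finite_integralClosure_iff A S).mp hfinA
  refine (CAlg5.finite_integralClosure_iff R S).mpr ⟨T, fun t ht => ?_, fun z hz => ?_⟩
  · haveI : Algebra.IsIntegral R A := Algebra.IsIntegral.of_finite R A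
    exact isIntegral_trans (R := R) (A := A) t (hT1 t ht)
  · have h1 := hT2 z hz.tower_top
    rwa [← Submodule.restrictScalars_mem R, Submodule.restrictScalars_span R A Ideal.Quotient.mk_surjective] at h1

/-- Integral closure in an algebra embedded in finitely many finitely generated fields. -/
theorem finite_integralClosure_of_pi (A : Type u) [CommRing A] (hA : CAlg.IsNagata A)
    {B : Type u} [CommRing B] [Algebra A B] {ι : Type u} [Finite ι]
    (L : ι → Type u) [∀ i, Field (L i)] (φ : ∀ i, B →+* L i)
    (hL : ∀ i, ((φ i).comp (algebraMap A B)).EssFiniteType)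
    (hinj : ∀ b : B, (∀ i, φ i b = 0) → b = 0) : Module.Finite A (integralClosure A B) := by
  let _ : ∀ i, Algebra A (L i) := fun i => ((φ i).comp (algebraMap A B)).toAlgebra
  have : ∀ i, Algebra.EssFiniteType A (L i) := fun i => hL i
  have : ∀ i, Module.Finite A (integralClosure A (L i)) := fun i => finite_integralClosure_field hA
  let ψ : ∀ i, B →ₐ[A] L i := fun i => { φ i with commutes' := fun _ => rfl }
  let G : integralClosure A B →ₗ[A] ∀ i, integralClosure A (L i) :=
    LinearMap.pi fun i => ((ψ i).comp (integralClosure A B).val).toLinearMap.codRestrict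
      (Subalgebra.toSubmodule (integralClosure A (L i))) fun x => x.2.map (ψ i)
  have := hA.1
  have : IsNoetherian A (∀ i, integralClosure A (L i)) := isNoetherian_of_isNoetherianRing_of_finite A _
  refine Module.Finite.of_injective G fun x y h => Subtype.ext (sub_eq_zero.1 (hinj _ fun i => ?_))
  have := congrArg Subtype.val (congrFun h i)
  rw [map_sub, sub_eq_zero]
  exact this

end Groth.Agent.NagaNorm57
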